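import Groth.Agent.Deform.K694.Iface
import Groth.Agent.Deform.K682.T1Lift
import Groth.Agent.ArtFun.K723.PowSmooth
import Mathlib.Algebra.MvPolynomial.Funext

/-!
# Functors with a hull which are unobstructed along curves

`main : K694.Iface.HullCurv`: in characteristic zero a functor of Artinian rings with a hull, for which all
`F(k[x]/(x^(n+2))) → F(k[x]/(x^(n+1)))` are surjective, is smooth, and each of its elements comes from a truncated
polynomial ring.
-/

set_option autoImplicit false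
universe u v

open CategoryTheory ArtFun ArtFun.Art IsLocalRing

namespace K63.HullCurv

section One

variable {k : Type u} [Field k] {N : ℕ}

open MvPolynomial K694.Pow

theorem m_one : m k 1 = Ideal.span {(X 0 : MvPolynomial (Fin 1) k)} := by
  rw [m]
  congr 1
  ext x
  simp [eq_comm]

variable (k N) in
/-- the class of the variable -/
noncomputable def t : Q k 1 N := Ideal.Quotient.mk _ (X 0)

theorem t_pow_succ : t k N ^ (N + 1) = 0 := by
  rw [t, ← map_pow, Ideal.Quotient.eq_zero_iff_mem, m_one, Ideal.span_singleton_pow]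
  exact Ideal.subset_span rfl

theorem t_pow_ne_zero : t k N ^ N ≠ 0 := by
  rw [t, ← map_pow, Ne, Ideal.Quotient.eq_zero_iff_mem, m_one, Ideal.span_singleton_pow,
    Ideal.mem_span_singleton]
  intro h
  have h1 : (X 0 : MvPolynomial (Fin 1) k) ≠ 0 := X_ne_zero 0
  have h2 : ¬ IsUnit (X 0 : MvPolynomial (Fin 1) k) := by
    intro hu
    have := hu.map (constantCoeff (σ := Fin 1) (R := k))
    rw [constantCoeff_X] at this
    exact not_isUnit_zero this
  have := (pow_dvd_pow_iff h1 h2).mp h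
  omega

theorem exists_of_aug (a : Q k 1 N) (ha : aug k 1 N a = 0) : ∃ b, a = t k N * b := by
  obtain ⟨p, rfl⟩ := Ideal.Quotient.mk_surjective a
  rw [aug_mk, ← mem_m_iff, m_one, Ideal.mem_span_singleton] at ha
  obtain ⟨q, rfl⟩ := ha
  exact ⟨Ideal.Quotient.mk _ q, map_mul _ _ _⟩

theorem exists_of_proj (h : 1 ≤ N) (a : Q k 1 N) (ha : (proj k 1 h).toAlgHom a = 0) : ∃ b, a = t k N ^ 2 * b := by
  obtain ⟨p, rfl⟩ := Ideal.Quotient.mk_surjective a
  rw [proj_mk] at ha
  have ha' : p ∈ m k 1 ^ (1 + 1) := Ideal.Quotient.eq_zero_iff_mem.mp ha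
  rw [m_one, Ideal.span_singleton_pow, Ideal.mem_span_singleton] at ha'
  obtain ⟨q, rfl⟩ := ha'
  exact ⟨Ideal.Quotient.mk _ q, by rw [map_mul, map_pow]; rfl⟩

theorem aeval_smul_of_isHomogeneous {σ B : Type*} [CommRing B] [Algebra k B] (p : MvPolynomial σ k) {e : ℕ}
    (hp : p.IsHomogeneous e) (s : B) (w : σ → B) : aeval (fun i => s * w i) p = s ^ e * aeval w p := by
  rw [p.as_sum, map_sum, map_sum, Finset.mul_sum]
  refine Finset.sum_congr rfl fun d hd => ?_
  rw [aeval_monomial, aeval_monomial]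
  have hdeg : d.degree = e := by
    have h1 := hp (mem_support_iff.mp hd)
    rw [Pi.one_def, ← Finsupp.degree_eq_weight_one] at h1
    exact h1
  rw [← hdeg]
  simp only [Finsupp.prod, mul_pow, Finset.prod_mul_distrib, Finset.prod_pow_eq_pow_sum]
  rw [← Finsupp.degree_apply]
  ring

end One

section Sur

variable {k : Type u} [Field k] {F : Art k k ⥤ Type v} {R : CRing k k} {ξ : Family R.carrier R.res F}

theorem homSet_base_unique (a b : HomSet R.carrier R.res (base k k)) : a = b := by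
  apply Subtype.ext
  have ha : (base k k).res.comp a.1 = a.1 := AlgHom.id_comp _
  have hb : (base k k).res.comp b.1 = b.1 := AlgHom.id_comp _
  rw [← ha, ← hb, a.2, b.2]

theorem surjective (hξ : IsMiniversal ξ) (A : Art k k) : Function.Surjective (ξ.app A) := by
  intro y
  obtain ⟨φ, hφ⟩ := hξ.2.2 (F.map (baseToDual (Λ := k) (k := k)) (F.map (toBase A) y))
  have h1 : F.map (toBase A) y = ξ.app (base k k) (HomSet.map (toBase _) φ) := by
    rw [ξ.natural, hφ]
    have h2 : (baseToDual (Λ := k) (k := k)) ≫ toBase (dual k k) = 𝟙 _ := by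
      rw [eq_toBase (baseToDual ≫ toBase _)]
      exact (eq_toBase _).symm
    rw [← Functor.map_comp_apply, h2, Functor.map_id_apply]
  obtain ⟨ψ, -, hψ⟩ := hξ.1 (toBase A) A.res_surjective _ y h1
  exact ⟨ψ, hψ⟩

end Sur

section Inj

open MvPowerSeries K694 K682.T1Lift

variable {k : Type u} [Field k]

/-- Any two `k`-algebra maps from a coefficient `k`-algebra to `k` agree. -/
theorem res_unique (R : CRing k k) (χ : R.carrier →ₐ[k] k) : χ = R.res := by
  apply AlgHom.ext
  intro r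
  have h1 : (RingHom.ker (χ : R.carrier →+* k)).IsMaximal :=
    RingHom.ker_isMaximal_of_surjective _ (fun c => ⟨algebraMap k _ c, by simp⟩)
  have h2 : r - algebraMap k R.carrier (R.res r) ∈ maximalIdeal R.carrier := by
    rw [R.mem_maximalIdeal_iff, map_sub, AlgHom.commutes, sub_eq_zero]
    rfl
  rw [← IsLocalRing.eq_maximalIdeal h1] at h2
  have h3 : χ (r - algebraMap k R.carrier (R.res r)) = 0 := h2
  rw [map_sub, AlgHom.commutes, sub_eq_zero] at h3
  exact h3

theorem maximalIdeal_pow (N : ℕ) : (maximalIdeal (Pow.obj k 1 N)) ^ (N + 1) = ⊥ := by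
  let τ : (Pow.obj k 1 N).carrier := t k N
  have h1 : maximalIdeal (Pow.obj k 1 N) ≤ Ideal.span {τ} := by
    intro a ha
    rw [mem_maximalIdeal_iff] at ha
    obtain ⟨b, hb⟩ := exists_of_aug (k := k) (N := N) a ha
    rw [Ideal.mem_span_singleton]
    exact ⟨b, hb⟩
  have h2 := Ideal.pow_right_mono h1 (N + 1)
  rw [Ideal.span_singleton_pow] at h2
  have h3 : τ ^ (N + 1) = 0 := t_pow_succ
  rw [h3, Ideal.span_singleton_eq_bot.mpr rfl] at h2
  exact le_bot_iff.mp h2

theorem map_varIdeal_pow {n : ℕ} {resS : MvPowerSeries (Fin n) k →ₐ[k] k} {C : Art k k} {N : ℕ}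
    (hN : (maximalIdeal C) ^ N = ⊥) (f : HomSet (MvPowerSeries (Fin n) k) resS C) (x : MvPowerSeries (Fin n) k)
    (hx : x ∈ Groth.Agent.Ega41.MvPS.varIdeal (Fin n) k ^ N) : f.1 x = 0 := by
  have h1 : Ideal.map f.1 (Groth.Agent.Ega41.MvPS.varIdeal (Fin n) k) ≤ IsLocalRing.maximalIdeal C := by
    rw [Ideal.map_span, Ideal.span_le]
    rintro _ ⟨_, ⟨i, rfl⟩, rfl⟩
    exact K723.Conormal.map_mem f (RingHom.mem_ker.2 (K723.PowSmooth.resS_X i))
  have h2 := Ideal.pow_right_mono h1 N
  rw [hN, ← Ideal.map_pow] at h2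
  exact h2 (Ideal.mem_map_of_mem _ hx)

theorem map_poly {n : ℕ} {B : Type*} [CommRing B] [Algebra k B] (f : MvPowerSeries (Fin n) k →ₐ[k] B)
    (p : MvPolynomial (Fin n) k) : f (p : MvPowerSeries (Fin n) k) = MvPolynomial.aeval (fun i => f (X i)) p := by
  have hpoly : (f.comp (MvPolynomial.coeToMvPowerSeries.algHom k) : MvPolynomial (Fin n) k →ₐ[k] B) =
      MvPolynomial.aeval (fun i => f (X i)) := by
    apply MvPolynomial.algHom_ext
    intro i
    rw [MvPolynomial.aeval_X]
    change f (MvPolynomial.coeToMvPowerSeries.algHom k (MvPolynomial.X i)) = _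
    rw [MvPolynomial.coeToMvPowerSeries.algHom_apply]
    simp
  have := DFunLike.congr_fun hpoly p
  change f (MvPolynomial.coeToMvPowerSeries.algHom k _) = _ at this
  rw [MvPolynomial.coeToMvPowerSeries.algHom_apply] at this
  simpa using this

theorem proj_self (N : ℕ) (a : Pow.obj k 1 N) : (Pow.proj k 1 (le_refl N)) a = a := by
  obtain ⟨p, hp⟩ := Ideal.Quotient.mk_surjective (I := Pow.m k 1 ^ (N + 1)) a
  have h1 := Pow.proj_mk k 1 (le_refl N) p
  rw [hp] at h1
  exact h1

theorem proj_proj {L M N : ℕ} (h : N ≤ M) (h' : M ≤ L) (a : Pow.obj k 1 L) :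
    (Pow.proj k 1 h) ((Pow.proj k 1 h') a) = (Pow.proj k 1 (h.trans h')) a := by
  obtain ⟨p, hp⟩ := Ideal.Quotient.mk_surjective (I := Pow.m k 1 ^ (L + 1)) a
  have h1 := Pow.proj_mk k 1 h' p
  have h2 := Pow.proj_mk k 1 (h.trans h') p
  have h3 := Pow.proj_mk k 1 h p
  rw [hp] at h1 h2
  have h1' : (Pow.proj k 1 h') a = (Ideal.Quotient.mk _ p : Pow.Q k 1 M) := h1
  rw [h1']
  exact h3.trans h2.symm

theorem proj_surjective {M N : ℕ} (h : N ≤ M) : Function.Surjective (Pow.proj k 1 h) := by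
  intro a
  obtain ⟨p, hp⟩ := Ideal.Quotient.mk_surjective (I := Pow.m k 1 ^ (N + 1)) a
  exact ⟨(Ideal.Quotient.mk _ p : Pow.Q k 1 M), (Pow.proj_mk k 1 h p).trans hp⟩

variable {F : Art k k ⥤ Type v} {R : CRing k k} {ξ : Family R.carrier R.res F}

theorem exists_arc (hξ : IsMiniversal ξ)
    (hF : ∀ n : ℕ, Function.Surjective (F.map (Pow.proj k 1 (Nat.le_succ n))))
    (ψ₁ : HomSet R.carrier R.res (Pow.obj k 1 1)) (N : ℕ) (h : 1 ≤ N) :
    ∃ ψ : HomSet R.carrier R.res (Pow.obj k 1 N), HomSet.map (Pow.proj k 1 h) ψ = ψ₁ := by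
  induction N, h using Nat.le_induction with
  | base => exact ⟨ψ₁, Subtype.ext (AlgHom.ext fun r => proj_self 1 _)⟩
  | succ N h ih =>
    obtain ⟨ψ, hψ⟩ := ih
    obtain ⟨y, hy⟩ := hF N (ξ.app _ ψ)
    obtain ⟨ψ', hψ', -⟩ := hξ.1 (Pow.proj k 1 (Nat.le_succ N)) (proj_surjective _) ψ y hy
    refine ⟨ψ', ?_⟩
    rw [← hψ, ← hψ']
    exact Subtype.ext (AlgHom.ext fun r => (proj_proj h (Nat.le_succ N) _).symm)

theorem eq_zero [CharZero k] (hξ : IsMiniversal ξ)
    (hF : ∀ n : ℕ, Function.Surjective (F.map (Pow.proj k 1 (Nat.le_succ n)))) {n : ℕ}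
    (Φ : MvPowerSeries (Fin n) k →ₐ[k] R.carrier) (hΦ : Function.Surjective Φ)
    (hres : ∀ f, R.res (Φ f) = constantCoeff f)
    (hmin : ∀ f, Φ f = 0 → ∀ i, constantCoeff (pderiv k i f) = 0)
    (f : MvPowerSeries (Fin n) k) (hf : Φ f = 0) : f = 0 := by
  classical
  by_contra hne
  obtain ⟨d, hd, hde⟩ := exists_coeff_ne_zero_and_order (ne_zero_iff_order_finite.mp hne)
  set e : ℕ := d.degree with he
  have he1 : 1 ≤ e := by
    rw [Nat.one_le_iff_ne_zero]
    intro h0
    have h1 : d = 0 := by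
      rw [he, Finsupp.degree_eq_zero_iff] at h0
      exact h0
    rw [h1, coeff_zero_eq_constantCoeff_apply, ← hres, hf, map_zero] at hd
    exact hd rfl
  let p : MvPolynomial (Fin n) k := truncTotal (e + 1) f
  have hp : p.IsHomogeneous e := by
    intro c hc
    have h1 : c.degree < e + 1 := by
      by_contra h
      exact hc (coeff_truncTotal_eq_zero _ (not_lt.mp h))
    have h2 : MvPolynomial.coeff c p = coeff c f := coeff_truncTotal _ h1
    rw [h2] at hc
    have h3 : ¬ (c.degree : ℕ∞) < f.order := fun h => hc (coeff_of_lt_order h)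
    rw [← hde, not_lt, Nat.cast_le] at h3
    rw [Pi.one_def, ← Finsupp.degree_eq_weight_one]
    exact le_antisymm (Nat.lt_succ_iff.mp h1) h3
  have hp0 : p ≠ 0 := by
    intro h
    have h2 : MvPolynomial.coeff d p = coeff d f := coeff_truncTotal _ (Nat.lt_succ_self _)
    rw [h, MvPolynomial.coeff_zero] at h2
    exact hd h2.symm
  have hinf : Infinite k := Infinite.of_injective (Nat.cast : ℕ → k) Nat.cast_injective
  obtain ⟨lam, hlam⟩ : ∃ lam : Fin n → k, MvPolynomial.eval lam p ≠ 0 := by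
    by_contra hcon
    push Not at hcon
    exact hp0 (MvPolynomial.funext fun x => by rw [hcon, map_zero])
  -- the first order arc
  let x1 : Fin n → (Pow.obj k 1 1).carrier := fun i => (lam i • t k 1 : Pow.Q k 1 1)
  have hm1 : ∀ i, x1 i ∈ maximalIdeal (Pow.obj k 1 1) := by
    intro i
    rw [mem_maximalIdeal_iff]
    have h1 : Pow.aug k 1 1 (lam i • t k 1) = 0 := by
      rw [map_smul, t, Pow.aug_mk, MvPolynomial.constantCoeff_X, smul_zero]
    exact h1
  obtain ⟨g, hg⟩ := K723.PowSmooth.exists_homSet (resS := R.res.comp Φ) (C := Pow.obj k 1 1)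
    x1 hm1
  obtain ⟨φ, hφ⟩ := exists_factor Φ hΦ g.1 (fun s hs => by
    refine map_varIdeal_pow (maximalIdeal_pow 1) g s ?_
    have h1 := Groth.Agent.Ega41.MvPS.sub_truncTotal_mem (σ := Fin n) (R := k) (1 + 1) s
    have h2 : (truncTotal (1 + 1) s : MvPolynomial (Fin n) k) = 0 := by
      ext c
      rw [MvPolynomial.coeff_zero]
      by_cases hc : c.degree < 1 + 1
      · rw [coeff_truncTotal _ hc]
        rcases Nat.lt_succ_iff.mp hc |>.eq_or_lt with h | h
        · obtain ⟨i, rfl⟩ : ∃ i, c = Finsupp.single i 1 := by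
            obtain ⟨i, hi⟩ : ∃ i, c i ≠ 0 := by
              by_contra hcon
              push Not at hcon
              have : c = 0 := Finsupp.ext hcon
              rw [this, map_zero] at h
              omega
            refine ⟨i, ?_⟩
            have hc' : c = (c - Finsupp.single i 1) + Finsupp.single i 1 := by
              ext j
              by_cases hij : i = j
              · subst hij
                simp
                omega
              · simp [hij]
            have hd0 : (c - Finsupp.single i 1).degree = 0 := by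
              have := congrArg Finsupp.degree hc'
              rw [map_add, h, Finsupp.degree_single] at this
              omega
            rw [Finsupp.degree_eq_zero_iff] at hd0
            rw [hc', hd0, zero_add]
          have h3 := hmin s hs i
          rw [← coeff_zero_eq_constantCoeff_apply, coeff_pderiv] at h3
          simpa using h3
        · have h3 : c = 0 := by
            rw [← Finsupp.degree_eq_zero_iff]
            omega
          rw [h3, coeff_zero_eq_constantCoeff_apply, ← hres, hs, map_zero]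
      · exact coeff_truncTotal_eq_zero _ (not_lt.mp hc)
    rw [h2] at h1
    simpa using h1)
  let ψ₁ : HomSet R.carrier R.res (Pow.obj k 1 1) := ⟨φ, res_unique R _⟩
  obtain ⟨ψ, hψ⟩ := exists_arc hξ hF ψ₁ e he1
  let G : HomSet (MvPowerSeries (Fin n) k) (R.res.comp Φ) (Pow.obj k 1 e) :=
    ⟨ψ.1.comp Φ, by rw [← AlgHom.comp_assoc, ψ.2]⟩
  have ha : ∀ i, ∃ w : Pow.Q k 1 e, (G.1 (X i) : Pow.Q k 1 e) = t k e * w ∧ Pow.aug k 1 e w = lam i := by
    intro i
    have h1 : (Pow.proj k 1 he1) (G.1 (X i)) = (lam i • t k 1 : Pow.Q k 1 1) := by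
      have h2 := DFunLike.congr_fun (congrArg Subtype.val hψ) (Φ (X i))
      have h3 : (Pow.proj k 1 he1) (ψ.1 (Φ (X i))) = φ (Φ (X i)) := h2
      rw [hφ, hg] at h3
      exact h3
    let a : Pow.Q k 1 e := G.1 (X i)
    have h4 : (Pow.proj k 1 he1).toAlgHom (a - lam i • t k e : Pow.Q k 1 e) = 0 := by
      have h5 : (Pow.proj k 1 he1).toAlgHom (t k e) = t k 1 := Pow.proj_mk k 1 he1 _
      refine (map_sub (Pow.proj k 1 he1).toAlgHom _ _).trans ?_
      refine sub_eq_zero.mpr (h1.trans ?_)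
      refine Eq.trans ?_ (map_smul (Pow.proj k 1 he1).toAlgHom (lam i) (t k e : Pow.Q k 1 e)).symm
      exact congrArg (fun z => lam i • z) h5.symm
    obtain ⟨b, hb⟩ := exists_of_proj he1 _ h4
    change ∃ w : Pow.Q k 1 e, a = t k e * w ∧ Pow.aug k 1 e w = lam i
    refine ⟨algebraMap k _ (lam i) + t k e * b, ?_, ?_⟩
    · rw [sub_eq_iff_eq_add] at hb
      have h6 : lam i • t k e = algebraMap k (Pow.Q k 1 e) (lam i) * t k e := by
        change Ideal.Quotient.mk _ (lam i • MvPolynomial.X 0) = _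
        rw [MvPolynomial.smul_eq_C_mul, map_mul]
        rfl
      rw [hb, h6]
      ring
    · rw [map_add, map_mul, AlgHom.commutes, t, Pow.aug_mk, MvPolynomial.constantCoeff_X, zero_mul, add_zero]
      rfl
  choose w hw1 hw2 using ha
  have h0 : G.1 f = 0 := by
    change ψ.1 (Φ f) = 0
    rw [hf, map_zero]
  have h1 : G.1 (p : MvPowerSeries (Fin n) k) = 0 := by
    have h2 := map_varIdeal_pow (maximalIdeal_pow e) G _
      (Groth.Agent.Ega41.MvPS.sub_truncTotal_mem (σ := Fin n) (R := k) (e + 1) f)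
    rw [map_sub, h0, zero_sub, neg_eq_zero] at h2
    exact h2
  have h2 : (MvPolynomial.aeval (fun i => t k e * w i) p : Pow.Q k 1 e) = 0 := by
    have h3 := map_poly G.1 p
    have h4 : (fun i => G.1 (X i)) = fun i => (t k e * w i : Pow.Q k 1 e) := funext hw1
    rw [h1, h4] at h3
    exact h3.symm
  rw [aeval_smul_of_isHomogeneous p hp] at h2
  have h3 : Pow.aug k 1 e (MvPolynomial.aeval w p - algebraMap k _ (MvPolynomial.eval lam p)) = 0 := by
    rw [map_sub, AlgHom.commutes, sub_eq_zero]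
    rw [MvPolynomial.comp_aeval_apply]
    have h4 : (fun i => Pow.aug k 1 e (w i)) = lam := funext hw2
    change MvPolynomial.aeval (fun i => Pow.aug k 1 e (w i)) p = _
    rw [h4]
    rfl
  obtain ⟨b, hb⟩ := exists_of_aug _ h3
  rw [sub_eq_iff_eq_add] at hb
  rw [hb, mul_add, ← mul_assoc, ← pow_succ, t_pow_succ, zero_mul, zero_add, mul_comm, ← Algebra.smul_def] at h2
  exact t_pow_ne_zero ((smul_eq_zero.mp h2).resolve_left hlam)

end Inj

section Main

open MvPowerSeries K694 K682.T1Lift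

/-- The canonical map out of a truncated polynomial ring. -/
theorem exists_powHom {k : Type u} [Field k] (A : Art k k) {n N : ℕ} (hN : maximalIdeal A ^ (N + 1) = ⊥)
    (x : Fin n → A) (hx : ∀ i, x i ∈ maximalIdeal A) :
    ∃ φ : Pow.obj k n N ⟶ A, ∀ i, φ.toAlgHom (Ideal.Quotient.mk _ (MvPolynomial.X i) : Pow.Q k n N) = x i := by
  have h1 : Pow.m k n ≤ (maximalIdeal A).comap (MvPolynomial.aeval x : MvPolynomial (Fin n) k →ₐ[k] A) := by
    rw [Pow.m, Ideal.span_le]
    rintro _ ⟨i, rfl⟩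
    change MvPolynomial.aeval x (MvPolynomial.X i) ∈ maximalIdeal A
    rw [MvPolynomial.aeval_X]
    exact hx i
  let φ : Pow.Q k n N →ₐ[k] A := Ideal.Quotient.liftₐ _ (MvPolynomial.aeval x) fun a ha => by
    have h2 : Pow.m k n ^ (N + 1) ≤ ((maximalIdeal A) ^ (N + 1)).comap
        (MvPolynomial.aeval x : MvPolynomial (Fin n) k →ₐ[k] A) :=
      (Ideal.pow_right_mono h1 _).trans (Ideal.le_comap_pow _ _)
    have h3 := h2 ha
    rw [hN] at h3
    exact h3
  have hφ : ∀ a, φ (Ideal.Quotient.mk _ a) = MvPolynomial.aeval x a := fun a => rfl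
  refine ⟨⟨φ, ?_⟩, fun i => (hφ _).trans (MvPolynomial.aeval_X _ _)⟩
  apply AlgHom.ext
  intro s
  obtain ⟨a, rfl⟩ := Ideal.Quotient.mk_surjective s
  have h2 : (A.res.comp (MvPolynomial.aeval x : MvPolynomial (Fin n) k →ₐ[k] A)) =
      MvPolynomial.aeval (fun _ => (0 : k)) := by
    apply MvPolynomial.algHom_ext
    intro i
    rw [AlgHom.comp_apply, MvPolynomial.aeval_X, MvPolynomial.aeval_X]
    exact (mem_maximalIdeal_iff A _).1 (hx i)
  exact DFunLike.congr_fun h2 a

theorem main : K694.Iface.HullCurv.{u, v} := by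
  intro k _ _ F hF hsur
  obtain ⟨⟨R, ξ, hξ⟩⟩ := hF
  obtain ⟨n, Φ, hΦ, hX, hres, hmin⟩ : ∃ (n : ℕ) (Φ : MvPowerSeries (Fin n) k →ₐ[k] R.carrier),
      Function.Surjective Φ ∧ (∀ i, Φ (X i) ∈ maximalIdeal R.carrier) ∧
      (∀ f, R.res (Φ f) = constantCoeff f) ∧ ∀ f, Φ f = 0 → ∀ i, constantCoeff (pderiv k i f) = 0 :=
    ⟨_, @exists_presentation k _ R.carrier _ _ _ _ R.isAdicComplete R.res⟩
  have hinj : ∀ f, Φ f = 0 → f = 0 := fun f hf => eq_zero hξ hsur Φ hΦ hres hmin f hf
  have hΦi : Function.Injective Φ := (injective_iff_map_eq_zero Φ).2 hinj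
  let e := AlgEquiv.ofBijective Φ ⟨hΦi, hΦ⟩
  have hes : ∀ r, Φ (e.symm r) = r := fun r => e.apply_symm_apply r
  have hse : ∀ r, e.symm (Φ r) = r := fun r => e.symm_apply_apply r
  have hsm := K723.PowSmooth.isSmoothFunctor _ (R.res.comp Φ)
  refine ⟨?_, ?_⟩
  · intro B A μ hμ a
    obtain ⟨φ, rfl⟩ := surjective hξ A a
    obtain ⟨ψ, hψ⟩ := hsm μ hμ ⟨φ.1.comp Φ, by rw [← AlgHom.comp_assoc, φ.2]⟩
    refine ⟨ξ.app B ⟨ψ.1.comp e.symm.toAlgHom, ?_⟩, ?_⟩
    · rw [← AlgHom.comp_assoc, ψ.2]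
      apply AlgHom.ext
      intro r
      exact congrArg R.res (hes r)
    · rw [← ξ.natural]
      congr 1
      apply Subtype.ext
      apply AlgHom.ext
      intro r
      have h1 := DFunLike.congr_fun (congrArg Subtype.val hψ) (e.symm r)
      have h2 : φ.1 (Φ (e.symm r)) = φ.1 r := by rw [hes]
      exact h1.trans h2
  · intro A x
    obtain ⟨ψ, rfl⟩ := surjective hξ A x
    obtain ⟨M, hM⟩ := (isArtinianRing_iff_isNilpotent_maximalIdeal A).1 inferInstance
    have hM' : maximalIdeal A ^ (M + 1) = ⊥ := by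
      rw [pow_succ, hM]
      exact zero_mul _
    have hxm : ∀ i, ψ.1 (Φ (X i)) ∈ maximalIdeal A := fun i =>
      K723.Conormal.map_mem ψ (by
        rw [RingHom.mem_ker]
        exact (hres _).trans (constantCoeff_X i))
    obtain ⟨φ, hφ⟩ := exists_powHom A hM' (fun i => ψ.1 (Φ (X i))) hxm
    let x1 : Fin n → (Pow.obj k n M).carrier := fun i =>
      (Ideal.Quotient.mk _ (MvPolynomial.X i) : Pow.Q k n M)
    have hx1 : ∀ i, x1 i ∈ maximalIdeal (Pow.obj k n M) := by
      intro i
      rw [mem_maximalIdeal_iff]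
      exact (Pow.aug_mk k n M _).trans (MvPolynomial.constantCoeff_X _ i)
    obtain ⟨g, hg⟩ := K723.PowSmooth.exists_homSet (resS := R.res.comp Φ) (C := Pow.obj k n M) x1 hx1
    let ρ : HomSet R.carrier R.res (Pow.obj k n M) := ⟨g.1.comp e.symm.toAlgHom, by
      rw [← AlgHom.comp_assoc, g.2]
      apply AlgHom.ext
      intro r
      exact congrArg R.res (hes r)⟩
    refine ⟨n, M, φ, ξ.app _ ρ, ?_⟩
    rw [← ξ.natural]
    congr 1
    let G₁ : HomSet (MvPowerSeries (Fin n) k) (R.res.comp Φ) A :=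
      ⟨(HomSet.map φ ρ).1.comp Φ, by rw [← AlgHom.comp_assoc, (HomSet.map φ ρ).2]⟩
    let G₂ : HomSet (MvPowerSeries (Fin n) k) (R.res.comp Φ) A :=
      ⟨ψ.1.comp Φ, by rw [← AlgHom.comp_assoc, ψ.2]⟩
    have hG : G₁ = G₂ := by
      apply K723.PowSmooth.homSet_ext
      intro i
      change φ.toAlgHom (g.1 (e.symm (Φ (X i)))) = ψ.1 (Φ (X i))
      rw [hse, hg]
      exact hφ i
    apply Subtype.ext
    apply AlgHom.ext
    intro r
    have h1 := DFunLike.congr_fun (congrArg Subtype.val hG) (e.symm r)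
    change (HomSet.map φ ρ).1 (Φ (e.symm r)) = ψ.1 (Φ (e.symm r)) at h1
    rwa [hes] at h1

end Main

end K63.HullCurv
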